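import Cfsg.Agent.H7.NBpComp
import Cfsg.Agent.H718.NBIH
import Cfsg.Agent.SignalizersComponents.Components
import Cfsg.Agent.SignalizersComponents.PConstrained
import Cfsg.Agent.SignalizersComponents.ComponentExists

/-!
# S5003: groups with one `p`-block have `p`-local centralizers of characteristic `p` (helper978)

* `NB.of_layer`: a component of `C_G(Q)` and the induction hypothesis;
* `NB.of_not_char`: `IH p |S|`, `Q ≠ 1` a `p`-subgroup of the simple group `S`, and `C = C_S(Q)` does not satisfy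
  `C_C(O_p(C)) ≤ O_p(C)`.
-/

set_option autoImplicit false

namespace Cfsg.Agent.H978.NB

open Cfsg Subgroup Cfsg.Agent.H7.NBp Cfsg.Agent.H718.NBIH Cfsg.Agent.SignalizersComponents

variable {p : ℕ} [hp : Fact p.Prime]

/-- a group with a component, whose simple quotient has a nonprincipal block -/
theorem nb_of_component {G : Type*} [Group G] [Finite G] {K : Subgroup G} (hK : IsComponent K)
    (h : NB p (K ⧸ center K)) : NB p G := by
  have hC : centralizer ((⊥ : Subgroup G) : Set G) = ⊤ := by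
    rw [eq_top_iff]
    intro x _
    rw [mem_centralizer_iff]
    intro y hy
    rw [SetLike.mem_coe, mem_bot] at hy
    rw [hy, one_mul, mul_one]
  refine NB.of_component (⊥ : Subgroup G) (IsPGroup.of_bot) K (by rw [hC]; exact le_top) ?_
    (QuotientGroup.mk' (center K)) (QuotientGroup.mk'_surjective _) (by rw [QuotientGroup.ker_mk']) h
  intro c _
  have h1 := Components.isComponent_conj c hK
  by_cases he : K.map (MulAut.conj c).toMonoidHom = K
  · left
    intro k hk
    rw [← he]
    exact ⟨k, hk, rfl⟩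
  · right
    intro k hk l hl
    have h2 := Components.component_le_centralizer_of_ne h1 hK he
    have h3 : c * k * c⁻¹ ∈ centralizer (K : Set G) := h2 ⟨k, hk, rfl⟩
    exact (mem_centralizer_iff.1 h3 l hl).symm

/-- **no nonprincipal block**: `C_C(O_p(C)) ≤ O_p(C)` for the centralizers `C` of the nontrivial `p`-subgroups -/
theorem char_of_not {S : Type*} [Group S] [Finite S] [IsSimpleGroup S] (hna : ¬ IsMulCommutative S)
    (ih : IH p (Nat.card S)) (hnb : ¬ NB p S) (Q : Subgroup S) (hQ : IsPGroup p Q) (hQ1 : Q ≠ ⊥) :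
    centralizer (pCore p ↥(centralizer (Q : Set S)) : Set ↥(centralizer (Q : Set S))) ≤
      pCore p ↥(centralizer (Q : Set S)) := by
  have hC : ¬ NB p ↥(centralizer (Q : Set S)) := fun h => hnb (NB.of_centralizer Q hQ h)
  have hO : pPrimeCore p ↥(centralizer (Q : Set S)) = ⊥ := by
    by_contra h
    have hN := Cfsg.Agent.Lib.Cores.pPrimeCore_normal (G := ↥(centralizer (Q : Set S))) p
    refine hC (NB.of_pprime_normal (pPrimeCore p ↥(centralizer (Q : Set S))) ?_ h)
    have h1 := Cfsg.Agent.Lib.Cores.pPrimeCore_coprime (G := ↥(centralizer (Q : Set S))) p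
    intro h2
    rw [Nat.Coprime, Nat.gcd_eq_right h2] at h1
    exact hp.out.one_lt.ne' h1
  rw [PConstrained.centralizer_pCore_le_iff_layer_eq_bot p hO, ComponentExists.layer_eq_bot_iff]
  intro K hK
  have hs : IsSimpleGroup (K ⧸ center K) := hK.2.2
  refine hC (nb_of_component hK (ih.use ?_ ?_))
  · intro hc
    apply ComponentExists.not_isSolvable_of_isQuasisimple hK.2
    have h1 : Group.IsSolvable (K ⧸ center K) := by
      have := hc
      exact Group.isSolvable_of_comm (fun a b => this.is_comm.comm a b)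
    have h2 : Group.IsSolvable ↥(center K) :=
      Group.isSolvable_of_comm (fun a b => Subtype.ext (mem_center_iff.1 b.2 a))
    exact (Group.isSolvable_iff_subgroup_quotient (center K)).2 ⟨h2, h1⟩
  · have h1 : Nat.card (K ⧸ center K) ≤ Nat.card K := Nat.card_le_card_of_surjective _ (QuotientGroup.mk_surjective)
    have h2 : Nat.card K ≤ Nat.card ↥(centralizer (Q : Set S)) := card_le_card_group K
    have h3 : Nat.card ↥(centralizer (Q : Set S)) < Nat.card S := by
      refine lt_of_le_of_ne (card_le_card_group _) fun h => ?_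
      have h4 : centralizer (Q : Set S) = ⊤ := eq_top_of_card_eq _ h
      have h5 : Q ≤ center S := by
        intro x hx
        rw [mem_center_iff]
        intro g
        have : g ∈ centralizer (Q : Set S) := by rw [h4]; exact mem_top g
        exact (mem_centralizer_iff.1 this x hx).symm
      have h6 : center S = ⊥ := by
        rcases (inferInstance : (center S).Normal).eq_bot_or_eq_top with h | h
        · exact h
        · exfalso
          apply hna
          refine ⟨⟨fun a b => ?_⟩⟩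
          have : b ∈ center S := by rw [h]; exact mem_top b
          exact mem_center_iff.1 this a
      rw [h6] at h5
      exact hQ1 (le_bot_iff.1 h5)
    omega

/-- the data of a `p`-element `y` in a group without nonprincipal block: `P = O_p(C(y))` -/
structure Loc {S : Type*} [Group S] (p : ℕ) (y : S) (P : Subgroup S) : Prop where
  le : P ≤ centralizer ({y} : Set S)
  pg : IsPGroup p P
  mem : y ∈ P
  norm : ∀ g, g * y = y * g → ∀ x ∈ P, g * x * g⁻¹ ∈ P
  self : ∀ g, (∀ x ∈ P, g * x = x * g) → g ∈ P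

theorem exists_loc {S : Type*} [Group S] [Finite S] [IsSimpleGroup S] (hna : ¬ IsMulCommutative S)
    (ih : IH p (Nat.card S)) (hnb : ¬ NB p S) {y : S} (hy : ∃ k : ℕ, y ^ p ^ k = 1) (hy1 : y ≠ 1) :
    ∃ P : Subgroup S, Loc p y P := by
  have hz : IsPGroup p (zpowers y) := by
    obtain ⟨k, hk⟩ := hy
    rintro ⟨x, hx⟩
    obtain ⟨i, rfl⟩ := mem_zpowers_iff.1 hx
    refine ⟨k, Subtype.ext ?_⟩
    show (y ^ i) ^ p ^ k = 1
    rw [← zpow_natCast, ← zpow_mul, mul_comm, zpow_mul, zpow_natCast, hk, one_zpow]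
  have h0 := char_of_not hna ih hnb (zpowers y) hz (by rwa [Ne, zpowers_eq_bot])
  have hC : centralizer ((zpowers y : Subgroup S) : Set S) = centralizer ({y} : Set S) := by
    rw [zpowers_eq_closure]; exact centralizer_closure _
  have hmem : ∀ g : S, g * y = y * g → g ∈ centralizer ((zpowers y : Subgroup S) : Set S) := by
    intro g hg
    rw [hC]
    exact mem_centralizer_singleton_iff.2 hg
  set C := centralizer ((zpowers y : Subgroup S) : Set S) with hCdef
  have hN := Cfsg.Agent.Lib.Cores.pCore_normal (G := C) p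
  have hP : IsPGroup p (pCore p C) := Cfsg.Agent.Lib.Cores.pCore_isPGroup p
  have hyC : y ∈ C := hmem y rfl
  refine ⟨(pCore p C).map C.subtype, ?_, ?_, ?_, ?_, ?_⟩
  · rw [← hC]
    exact map_subtype_le _
  · exact hP.map _
  · refine ⟨⟨y, hyC⟩, h0 ?_, rfl⟩
    rw [mem_centralizer_iff]
    intro x _
    apply Subtype.ext
    have h1 : (x : S) ∈ centralizer ({y} : Set S) := by rw [← hC]; exact x.2
    exact mem_centralizer_singleton_iff.1 h1
  · rintro g hg x ⟨x, hx, rfl⟩
    exact ⟨⟨g, hmem g hg⟩ * x * ⟨g, hmem g hg⟩⁻¹, hN.conj_mem x hx _, rfl⟩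
  · intro g hg
    have hgy : g * y = y * g := by
      refine hg y ⟨⟨y, hyC⟩, h0 ?_, rfl⟩
      rw [mem_centralizer_iff]
      intro x _
      apply Subtype.ext
      have h1 : (x : S) ∈ centralizer ({y} : Set S) := by rw [← hC]; exact x.2
      exact mem_centralizer_singleton_iff.1 h1
    refine ⟨⟨g, hmem g hgy⟩, h0 ?_, rfl⟩
    rw [mem_centralizer_iff]
    intro x hx
    apply Subtype.ext
    exact (hg x ⟨x, hx, rfl⟩).symm

/-- **the step**: an element `z` of prime order `r ≠ p` normalizing the `p`-group `P` and not centralizing it: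
`|P| = p ^ (m + j)`, `|C_P(z)| = p ^ m`, `r ∣ p ^ j - 1`. -/
theorem step {S : Type*} [Group S] [Finite S] {P : Subgroup S} (hP : IsPGroup p P) {z : S} {r : ℕ} (hr : r.Prime)
    (hrp : r ≠ p) (hz : orderOf z = r) (hn : ∀ x ∈ P, z * x * z⁻¹ ∈ P) (hne : ∃ x ∈ P, z * x ≠ x * z) :
    ∃ m j : ℕ, 1 ≤ j ∧ Nat.card P = p ^ (m + j) ∧ Nat.card (P ⊓ centralizer ({z} : Set S) : Subgroup S) = p ^ m ∧
      r ∣ p ^ j - 1 := by
  classical
  have hrF : Fact r.Prime := ⟨hr⟩
  have hzn : zpowers z ≤ normalizer (P : Set S) := by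
    rw [zpowers_le]
    exact mem_normalizer_fintype hn
  let act : MulAction (zpowers z) P := MulAction.compHom P (Subgroup.inclusion hzn)
  have hact : ∀ (g : zpowers z) (x : P), ((g • x : P) : S) = (g : S) * x * (g : S)⁻¹ := fun g x => rfl
  have hzp : IsPGroup r (zpowers z) := IsPGroup.of_card (n := 1) (by rw [Nat.card_zpowers, hz, pow_one])
  have h1 := hzp.card_modEq_card_fixedPoints P
  have h2 : Nat.card (MulAction.fixedPoints (zpowers z) P) =
      Nat.card (P ⊓ centralizer ({z} : Set S) : Subgroup S) := by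
    have hfp : ∀ x : P, x ∈ MulAction.fixedPoints (zpowers z) P ↔ (x : S) ∈ centralizer ({z} : Set S) := by
      intro x
      rw [MulAction.mem_fixedPoints, mem_centralizer_singleton_iff]
      constructor
      · intro h
        have h3 := congrArg Subtype.val (h ⟨z, mem_zpowers z⟩)
        rw [hact] at h3
        exact (mul_inv_eq_iff_eq_mul.1 h3).symm
      · intro h g
        apply Subtype.ext
        rw [hact]
        obtain ⟨i, hi⟩ := mem_zpowers_iff.1 g.2
        rw [← hi, mul_inv_eq_iff_eq_mul]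
        have hc : Commute (x : S) z := h
        exact (hc.zpow_right i).eq.symm
    refine Nat.card_congr ⟨fun x => ⟨(x.1 : S), x.1.2, (hfp x.1).1 x.2⟩, fun x => ⟨⟨x.1, x.2.1⟩, (hfp _).2 x.2.2⟩, ?_, ?_⟩
    · intro x; rfl
    · intro x; rfl
  obtain ⟨n, hn'⟩ := IsPGroup.iff_card.1 hP
  obtain ⟨m, hm⟩ := IsPGroup.iff_card.1 (hP.to_le (inf_le_left : P ⊓ centralizer ({z} : Set S) ≤ P))
  rw [h2, hn', hm] at h1
  have hmn : m < n := by
    have h3 : Nat.card (P ⊓ centralizer ({z} : Set S) : Subgroup S) ∣ Nat.card P := card_dvd_of_le inf_le_left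
    rw [hn', hm] at h3
    have h4 := (Nat.pow_dvd_pow_iff_le_right hp.out.one_lt).1 h3
    refine lt_of_le_of_ne h4 fun h5 => ?_
    have h6 : P ⊓ centralizer ({z} : Set S) = P := eq_of_le_of_card_ge inf_le_left (by rw [hn', hm, h5])
    obtain ⟨x, hx, hxz⟩ := hne
    have h7 : x ∈ P ⊓ centralizer ({z} : Set S) := by rw [h6]; exact hx
    exact hxz (mem_centralizer_singleton_iff.1 h7.2).symm
  obtain ⟨j, rfl⟩ : ∃ j, n = m + j := ⟨n - m, by omega⟩
  refine ⟨m, j, by omega, hn', hm, ?_⟩
  have h3 : p ^ m * p ^ j ≡ p ^ m * 1 [MOD r] := by rwa [← pow_add, mul_one]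
  have h4 : Nat.Coprime r (p ^ m) := Nat.Coprime.pow_right _ ((Nat.coprime_primes hr hp.out).2 hrp)
  have h5 := Nat.ModEq.cancel_left_of_coprime h4 h3
  exact (Nat.modEq_iff_dvd' (Nat.one_le_pow _ _ hp.out.pos)).1 h5.symm

/-- **the step for `O_p(C(y))`**, `z` of prime order `r ≠ p` commuting with `y` -/
theorem Loc.step {S : Type*} [Group S] [Finite S] {y : S} {P : Subgroup S} (h : Loc p y P) (hy1 : y ≠ 1) {z : S} {r : ℕ}
    (hr : r.Prime) (hrp : r ≠ p) (hz : orderOf z = r) (hzy : z * y = y * z) :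
    ∃ m j : ℕ, 1 ≤ m ∧ 1 ≤ j ∧ Nat.card P = p ^ (m + j) ∧
      Nat.card (P ⊓ centralizer ({z} : Set S) : Subgroup S) = p ^ m ∧ r ∣ p ^ j - 1 := by
  obtain ⟨m, j, h1, h2, h3, h4⟩ := Cfsg.Agent.H978.NB.step h.pg hr hrp hz (fun x hx => h.norm z hzy x hx) (by
    by_contra hcon
    push Not at hcon
    have h5 := h.self z hcon
    obtain ⟨k, hk⟩ := h.pg ⟨z, h5⟩
    have h6 : z ^ p ^ k = 1 := congrArg Subtype.val hk
    have h7 := orderOf_dvd_of_pow_eq_one h6
    rw [hz] at h7
    exact hrp ((Nat.prime_dvd_prime_iff_eq hr hp.out).1 (hr.dvd_of_dvd_pow h7)))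
  refine ⟨m, j, ?_, h1, h2, h3, h4⟩
  by_contra h0
  have h5 : m = 0 := by omega
  rw [h5, pow_zero, card_eq_one] at h3
  have h6 : y ∈ P ⊓ centralizer ({z} : Set S) := ⟨h.mem, mem_centralizer_singleton_iff.2 hzy.symm⟩
  rw [h3, mem_bot] at h6
  exact hy1 h6

/-- **NUMERIC CRITERION**: commuting elements `y` of order `p` and `z` of prime order `r ≠ p`, `p ^ (a + 1)` does not
divide `|C(y)|`, and `r` does not divide `p ^ j - 1` for `1 ≤ j < a`. -/
theorem nb_of_commute {S : Type*} [Group S] [Finite S] [IsSimpleGroup S] (hna : ¬ IsMulCommutative S)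
    (ih : IH p (Nat.card S)) {y z : S} {r a : ℕ} (hy : orderOf y = p) (hr : r.Prime) (hrp : r ≠ p) (hz : orderOf z = r)
    (hzy : z * y = y * z) (ha : ¬ p ^ (a + 1) ∣ Nat.card ↥(centralizer ({y} : Set S)))
    (hj : ∀ j, 1 ≤ j → j < a → ¬ r ∣ p ^ j - 1) : NB p S := by
  by_contra hnb
  have hy1 : y ≠ 1 := by
    rintro rfl
    rw [orderOf_one] at hy
    exact hp.out.one_lt.ne hy
  obtain ⟨P, hP⟩ := exists_loc hna ih hnb ⟨1, by rw [pow_one, ← hy, pow_orderOf_eq_one]⟩ hy1
  obtain ⟨m, j, h1, h2, h3, -, h4⟩ := hP.step hy1 hr hrp hz hzy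
  have h5 : Nat.card P ∣ Nat.card ↥(centralizer ({y} : Set S)) := card_dvd_of_le hP.le
  rw [h3] at h5
  have h6 : m + j < a + 1 := by
    by_contra h7
    exact ha ((pow_dvd_pow p (by omega)).trans h5)
  exact hj j h2 (by omega) h4

/-- the numeric criterion for an element of order `p * r`, with the `p`-part of `|S|` -/
theorem nb_of_order {S : Type*} [Group S] [Finite S] [IsSimpleGroup S] (hna : ¬ IsMulCommutative S)
    (ih : IH p (Nat.card S)) {r a : ℕ} (hr : r.Prime) (hrp : r ≠ p) (ho : ∃ w : S, p * r ∣ orderOf w)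
    (ha : ¬ p ^ (a + 1) ∣ Nat.card S) (hj : ∀ j, 1 ≤ j → j < a → ¬ r ∣ p ^ j - 1) : NB p S := by
  obtain ⟨w, c, hc⟩ := ho
  have hc0 : c ≠ 0 := by
    rintro rfl
    rw [mul_zero] at hc
    exact (orderOf_pos w).ne' hc
  have hw : orderOf (w ^ c) = p * r := by
    rw [orderOf_pow_of_dvd hc0 (by rw [hc]; exact Dvd.intro_left _ rfl), hc, Nat.mul_div_cancel _ (Nat.pos_of_ne_zero hc0)]
  have h1 : orderOf ((w ^ c) ^ r) = p := by
    rw [orderOf_pow_of_dvd hr.ne_zero (by rw [hw]; exact Dvd.intro_left _ rfl), hw, Nat.mul_div_cancel _ hr.pos]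
  have h2 : orderOf ((w ^ c) ^ p) = r := by
    rw [orderOf_pow_of_dvd hp.out.ne_zero (by rw [hw]; exact Dvd.intro _ rfl), hw, Nat.mul_div_cancel_left _ hp.out.pos]
  refine nb_of_commute hna ih h1 hr hrp h2 ?_ (fun h => ha (h.trans (card_subgroup_dvd_card _))) hj
  exact (Commute.refl (w ^ c)).pow_pow p r

end Cfsg.Agent.H978.NB
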