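import Cfsg.Agent.H978.NB.Char

/-!
# S5003: `|P| |H|` divides `|C(y)|` for a simple group `H` acting on `P = O_p(C(y))` (helper978)
-/

set_option autoImplicit false

namespace Cfsg.Agent.H978.NB

open Cfsg Subgroup Cfsg.Agent.H7.NBp Cfsg.Agent.H718.NBIH

variable {p : ℕ} [hp : Fact p.Prime]

/-- a simple group `H` embedded in `C(y)`, with a prime divisor `r ≠ p` of its order: `|P| |H| ∣ |C(y)|` -/
theorem Loc.mul_dvd {S : Type*} [Group S] [Finite S] {y : S} {P : Subgroup S} (h : Loc p y P) {H : Type*} [Group H]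
    [Finite H] [IsSimpleGroup H] (f : H →* S) (hf : Function.Injective f) (hc : ∀ x, f x * y = y * f x) {r : ℕ}
    (hr : r.Prime) (hrp : r ≠ p) (hrH : r ∣ Nat.card H) :
    Nat.card P * Nat.card H ∣ Nat.card ↥(centralizer ({y} : Set S)) := by
  have hn : (P.comap f).Normal := ⟨fun x hx g => by
    rw [mem_comap] at hx ⊢
    rw [map_mul, map_mul, map_inv]
    exact h.norm _ (hc g) _ hx⟩
  have hb : P.comap f = ⊥ := by
    rcases hn.eq_bot_or_eq_top with h1 | h1
    · exact h1
    · exfalso
      have : Fact r.Prime := ⟨hr⟩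
      obtain ⟨x, hx⟩ := exists_prime_orderOf_dvd_card' (G := H) r hrH
      have h2 : f x ∈ P := by
        have : x ∈ P.comap f := by rw [h1]; exact mem_top x
        exact this
      obtain ⟨k, hk⟩ := h.pg ⟨f x, h2⟩
      have h3 : f x ^ p ^ k = 1 := congrArg Subtype.val hk
      rw [← map_pow] at h3
      have h4 := orderOf_dvd_of_pow_eq_one (hf (h3.trans (map_one f).symm))
      rw [hx] at h4
      exact hrp ((Nat.prime_dvd_prime_iff_eq hr hp.out).1 (hr.dvd_of_dvd_pow h4))
  set C := centralizer ({y} : Set S) with hC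
  have hCn : (P.subgroupOf C).Normal := ⟨fun x hx g => by
    rw [mem_subgroupOf] at hx ⊢
    exact h.norm _ (mem_centralizer_singleton_iff.1 g.2) _ hx⟩
  let F : H →* C := f.codRestrict C (fun x => mem_centralizer_singleton_iff.2 (hc x))
  let q : H →* C ⧸ P.subgroupOf C := (QuotientGroup.mk' _).comp F
  have hq : Function.Injective q := by
    rw [injective_iff_map_eq_one]
    intro x hx
    have h1 : F x ∈ P.subgroupOf C := (QuotientGroup.eq_one_iff _).1 hx
    have h2 : x ∈ P.comap f := h1
    rw [hb, mem_bot] at h2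
    exact h2
  have h1 : Nat.card H ∣ Nat.card (C ⧸ P.subgroupOf C) := by
    rw [Nat.card_congr (MonoidHom.ofInjective hq).toEquiv]
    exact card_subgroup_dvd_card _
  rw [card_eq_card_quotient_mul_card_subgroup (P.subgroupOf C), mul_comm,
    Nat.card_congr (subgroupOfEquivOfLe h.le).toEquiv]
  exact mul_dvd_mul h1 dvd_rfl

end Cfsg.Agent.H978.NB
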