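import Cfsg.Agent.H978.NB.Char

/-!
# S5003: `O_p(C(y))` is a Sylow subgroup (helper978)

* `full_syl` : the numbers force `O_p(C(y))` to be a Sylow `p`-subgroup of `S`;
* `nb_of_gen` : then two elements of order `p` of `C(y)` generate a `p`-group;
* `nb_of_nine` : then (`p = 3`) the Sylow 3-subgroups of `S` have exponent 3.
-/

set_option autoImplicit false
set_option linter.unusedSectionVars false

namespace Cfsg.Agent.H978.NB

open Cfsg Subgroup Cfsg.Agent.H7.NBp Cfsg.Agent.H718.NBIH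

variable {p : ℕ} [hp : Fact p.Prime]

theorem full_syl {S : Type*} [Group S] [Finite S] [IsSimpleGroup S] (hna : ¬ IsMulCommutative S)
    (ih : IH p (Nat.card S)) (hnb : ¬ NB p S) {y z : S} {r a : ℕ} (hy : orderOf y = p) (hr : r.Prime) (hrp : r ≠ p)
    (hz : orderOf z = r) (hzy : z * y = y * z) (ha : ¬ p ^ (a + 1) ∣ Nat.card S)
    (hj : ∀ j, 1 ≤ j → j + 1 < a → ¬ r ∣ p ^ j - 1) :
    ∃ P : Subgroup S, Loc p y P ∧ Nat.card P = p ^ a ∧ Nat.card (P ⊓ centralizer ({z} : Set S) : Subgroup S) = p := by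
  have hy1 : y ≠ 1 := by
    rintro rfl
    rw [orderOf_one] at hy
    exact hp.out.one_lt.ne hy
  obtain ⟨P, hP⟩ := exists_loc hna ih hnb ⟨1, by rw [pow_one, ← hy, pow_orderOf_eq_one]⟩ hy1
  obtain ⟨m, j, h1, h2, h3, h4, h5⟩ := hP.step hy1 hr hrp hz hzy
  have h6 : m + j < a + 1 := by
    by_contra h7
    apply ha
    refine (pow_dvd_pow p (show a + 1 ≤ m + j by omega)).trans ?_
    rw [← h3]
    exact card_subgroup_dvd_card _
  have h7 : ¬ j + 1 < a := fun h => hj j h2 h h5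
  obtain rfl : m = 1 := by omega
  obtain rfl : a = 1 + j := by omega
  exact ⟨P, hP, h3, by rw [h4, pow_one]⟩

/-- a Sylow `p`-subgroup of `S` normal in a subgroup containing `x`, `x ^ p = 1` -/
theorem mem_of_full {S : Type*} [Group S] [Finite S] {P : Subgroup S} {a : ℕ} (hP : Nat.card P = p ^ a)
    (ha : ¬ p ^ (a + 1) ∣ Nat.card S) {x : S} (hx : ∃ k : ℕ, x ^ p ^ k = 1) (hn : ∀ w ∈ P, x * w * x⁻¹ ∈ P) : x ∈ P := by
  have hPg : IsPGroup p P := IsPGroup.of_card hP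
  have hxg : IsPGroup p (zpowers x) := by
    obtain ⟨k, hk⟩ := hx
    rintro ⟨w, hw⟩
    obtain ⟨i, rfl⟩ := mem_zpowers_iff.1 hw
    refine ⟨k, Subtype.ext ?_⟩
    show (x ^ i) ^ p ^ k = 1
    rw [← zpow_natCast, ← zpow_mul, mul_comm, zpow_mul, zpow_natCast, hk, one_zpow]
  have hle : zpowers x ≤ normalizer (P : Set S) := by
    rw [zpowers_le]
    exact mem_normalizer_fintype hn
  have h1 : IsPGroup p (zpowers x ⊔ P : Subgroup S) := hxg.to_sup_of_normal_right' hPg hle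
  obtain ⟨n, hn'⟩ := IsPGroup.iff_card.1 h1
  have h2 : Nat.card P ∣ Nat.card (zpowers x ⊔ P : Subgroup S) := card_dvd_of_le le_sup_right
  rw [hP, hn'] at h2
  have h3 := (Nat.pow_dvd_pow_iff_le_right hp.out.one_lt).1 h2
  have h4 : n ≤ a := by
    by_contra h5
    apply ha
    refine (pow_dvd_pow p (show a + 1 ≤ n by omega)).trans ?_
    rw [← hn']
    exact card_subgroup_dvd_card _
  have h5 : P = zpowers x ⊔ P := eq_of_le_of_card_ge le_sup_right (by rw [hP, hn']; exact Nat.pow_le_pow_right hp.out.pos h4)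
  rw [h5]
  exact (le_sup_left : zpowers x ≤ zpowers x ⊔ P) (mem_zpowers x)

/-- **two elements of order `p` of `C(y)` whose product has prime order `r ≠ p`** -/
theorem nb_of_gen {S : Type*} [Group S] [Finite S] [IsSimpleGroup S] (hna : ¬ IsMulCommutative S)
    (ih : IH p (Nat.card S)) {y u v : S} {r a : ℕ} (hy : orderOf y = p) (hr : r.Prime) (hrp : r ≠ p)
    (hu : u ^ p = 1) (hv : v ^ p = 1) (huv : orderOf (u * v) = r) (huy : u * y = y * u) (hvy : v * y = y * v)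
    (ha : ¬ p ^ (a + 1) ∣ Nat.card S) (hj : ∀ j, 1 ≤ j → j + 1 < a → ¬ r ∣ p ^ j - 1) : NB p S := by
  by_contra hnb
  have h1 : u * v * y = y * (u * v) := by rw [mul_assoc, hvy, ← mul_assoc, huy, mul_assoc]
  obtain ⟨P, hP, h2, -⟩ := full_syl hna ih hnb hy hr hrp huv h1 ha hj
  have h3 : u ∈ P := mem_of_full h2 ha ⟨1, by rw [pow_one, hu]⟩ (hP.norm u huy)
  have h4 : v ∈ P := mem_of_full h2 ha ⟨1, by rw [pow_one, hv]⟩ (hP.norm v hvy)
  obtain ⟨k, hk⟩ := hP.pg ⟨u * v, mul_mem h3 h4⟩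
  have h5 : (u * v) ^ p ^ k = 1 := congrArg Subtype.val hk
  have h6 := orderOf_dvd_of_pow_eq_one h5
  rw [huv] at h6
  exact hrp ((Nat.prime_dvd_prime_iff_eq hr hp.out).1 (hr.dvd_of_dvd_pow h6))

/-! ### Exponent three -/

section three

variable {S : Type*} [Group S] [Finite S] {P : Subgroup S} {y z : S} {r a : ℕ}

/-- the data -/
structure Thr (P : Subgroup S) (y z : S) (r a : ℕ) : Prop where
  card : Nat.card P = 3 ^ a
  oy : orderOf y = 3
  mem : y ∈ P
  cen : ∀ x ∈ P, x * y = y * x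
  nz : ∀ x ∈ P, z * x * z⁻¹ ∈ P
  pr : r.Prime
  ne : r ≠ 3
  oz : orderOf z = r
  zy : z * y = y * z
  cz : Nat.card (P ⊓ centralizer ({z} : Set S) : Subgroup S) = 3
  hj : ∀ j, 1 ≤ j → j + 1 < a → ¬ r ∣ 3 ^ j - 1
  ha : 3 ≤ a

namespace Thr

variable (D : Thr P y z r a)
include D

theorem y3 : y ^ 3 = 1 := by rw [← D.oy, pow_orderOf_eq_one]

theorem pow_three {c : S} (hc : c ∈ zpowers y) : c ^ 3 = 1 := by
  obtain ⟨i, rfl⟩ := mem_zpowers_iff.1 hc
  rw [← zpow_natCast, ← zpow_mul, mul_comm, zpow_mul, zpow_natCast, D.y3, one_zpow]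

theorem comm {c x : S} (hc : c ∈ zpowers y) (hx : x ∈ P) : Commute x c := by
  obtain ⟨i, rfl⟩ := mem_zpowers_iff.1 hc
  exact (show Commute x y from D.cen x hx).zpow_right i

theorem commz {c : S} (hc : c ∈ zpowers y) : Commute z c := by
  obtain ⟨i, rfl⟩ := mem_zpowers_iff.1 hc
  exact (show Commute z y from D.zy).zpow_right i

theorem zle : zpowers y ≤ P := by rw [zpowers_le]; exact D.mem

theorem dich {Q : Subgroup S} (hQ : Q ≤ P) (hy : y ∈ Q) (hn : ∀ x ∈ Q, z * x * z⁻¹ ∈ Q) : Q = P ∨ Q ≤ zpowers y := by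
  have h3 : Fact (Nat.Prime 3) := ⟨Nat.prime_three⟩
  have hPg : IsPGroup 3 P := IsPGroup.of_card D.card
  by_cases h : ∃ x ∈ Q, z * x ≠ x * z
  · left
    obtain ⟨m, j, h1, h2, h4, h5⟩ := step (hPg.to_le hQ) D.pr D.ne D.oz hn h
    have h6 : m ≠ 0 := by
      rintro rfl
      rw [pow_zero, card_eq_one] at h4
      have h7 : y ∈ Q ⊓ centralizer ({z} : Set S) := ⟨hy, mem_centralizer_singleton_iff.2 D.zy.symm⟩
      rw [h4, mem_bot] at h7
      have h8 := D.oy
      rw [h7, orderOf_one] at h8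
      norm_num at h8
    have h7 : ¬ j + 1 < a := fun h => D.hj j h1 h h5
    refine eq_of_le_of_card_ge hQ ?_
    rw [D.card, h2]
    exact Nat.pow_le_pow_right (by norm_num) (by omega)
  · right
    push Not at h
    have h1 : Q ≤ P ⊓ centralizer ({z} : Set S) := fun x hx =>
      ⟨hQ hx, mem_centralizer_singleton_iff.2 (h x hx).symm⟩
    have h2 : zpowers y = P ⊓ centralizer ({z} : Set S) := by
      refine eq_of_le_of_card_ge ?_ (by rw [D.cz, Nat.card_zpowers, D.oy])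
      rw [zpowers_le]
      exact ⟨D.mem, mem_centralizer_singleton_iff.2 D.zy.symm⟩
    rw [h2]
    exact h1

/-- cubes of products -/
theorem cube_mul {g h : S} (hg : g ∈ P) (hh : h ∈ P) (hc : g⁻¹ * h * g * h⁻¹ ∈ zpowers y) : (g * h) ^ 3 = g ^ 3 * h ^ 3 := by
  obtain ⟨c, e⟩ : ∃ c, c = g⁻¹ * h * g * h⁻¹ := ⟨_, rfl⟩
  rw [← e] at hc
  have h1 : h * g = g * h * c := by
    have h2 : h * g = g * c * h := by rw [e]; group
    rw [h2, mul_assoc, mul_assoc, (D.comm hc hh).eq]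
  have cg : c * g = g * c := (D.comm hc hg).eq.symm
  have ch : c * h = h * c := (D.comm hc hh).eq.symm
  have c3 : c * (c * c) = 1 := by
    have := D.pow_three hc
    rwa [pow_succ, pow_two, mul_assoc] at this
  calc (g * h) ^ 3 = g * (h * g) * (h * g) * h := by rw [pow_succ, pow_two]; group
    _ = g * (g * h * c) * (g * h * c) * h := by rw [h1]
    _ = g * g * h * (c * g) * h * (c * h) := by group
    _ = g * g * h * (g * c) * h * (h * c) := by rw [cg, ch]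
    _ = g * g * (h * g) * (c * h) * h * c := by group
    _ = g * g * (g * h * c) * (h * c) * h * c := by rw [h1, ch]
    _ = g * g * g * h * (c * h) * (c * h) * c := by group
    _ = g * g * g * h * (h * c) * (h * c) * c := by rw [ch]
    _ = g * g * g * h * h * (c * h) * c * c := by group
    _ = g * g * g * h * h * (h * c) * c * c := by rw [ch]
    _ = g * g * g * h * h * h * (c * (c * c)) := by group
    _ = g ^ 3 * h ^ 3 := by rw [c3]; simp only [pow_succ, pow_zero, one_mul, mul_one, mul_assoc]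

/-- the preimage of `Ω₁(Z(P / ⟨y⟩))` -/
def Q1 : Subgroup S where
  carrier := {g | g ∈ P ∧ g ^ 3 ∈ zpowers y ∧ ∀ h ∈ P, g * h * g⁻¹ * h⁻¹ ∈ zpowers y}
  one_mem' := ⟨one_mem _, by rw [one_pow]; exact one_mem _, fun h _ => by
    rw [one_mul, inv_one, mul_one, mul_inv_cancel]; exact one_mem _⟩
  mul_mem' := by
    rintro g k ⟨h1, h2, h3⟩ ⟨k1, k2, k3⟩
    refine ⟨mul_mem h1 k1, ?_, fun h hh => ?_⟩
    · have h4 : g⁻¹ * k * g * k⁻¹ ∈ zpowers y := by
        have h5 := h3 k k1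
        have h6 : g⁻¹ * k * g * k⁻¹ = (g * k * g⁻¹ * k⁻¹)⁻¹ := by
          have h7 := (D.comm (inv_mem h5) h1).eq
          calc g⁻¹ * k * g * k⁻¹ = g⁻¹ * ((g * k * g⁻¹ * k⁻¹)⁻¹ * g) := by group
            _ = g⁻¹ * (g * (g * k * g⁻¹ * k⁻¹)⁻¹) := by rw [h7]
            _ = _ := by group
        rw [h6]
        exact inv_mem h5
      rw [D.cube_mul h1 k1 h4]
      exact mul_mem h2 k2
    · have h4 := k3 h hh
      have h5 : g * k * h * (g * k)⁻¹ * h⁻¹ = (k * h * k⁻¹ * h⁻¹) * (g * h * g⁻¹ * h⁻¹) := by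
        have h6 := (D.comm h4 h1).eq
        calc g * k * h * (g * k)⁻¹ * h⁻¹ = g * (k * h * k⁻¹ * h⁻¹) * h * g⁻¹ * h⁻¹ := by group
          _ = (k * h * k⁻¹ * h⁻¹) * g * h * g⁻¹ * h⁻¹ := by rw [h6]
          _ = _ := by group
      rw [h5]
      exact mul_mem h4 (h3 h hh)
  inv_mem' := by
    rintro g ⟨h1, h2, h3⟩
    refine ⟨inv_mem h1, ?_, fun h hh => ?_⟩
    · rw [inv_pow]; exact inv_mem h2
    · have h4 := h3 h hh
      have h5 : g⁻¹ * h * g⁻¹⁻¹ * h⁻¹ = (g * h * g⁻¹ * h⁻¹)⁻¹ := by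
        have h6 := (D.comm (inv_mem h4) h1).eq
        calc g⁻¹ * h * g⁻¹⁻¹ * h⁻¹ = g⁻¹ * ((g * h * g⁻¹ * h⁻¹)⁻¹ * g) := by group
          _ = g⁻¹ * (g * (g * h * g⁻¹ * h⁻¹)⁻¹) := by rw [h6]
          _ = _ := by group
      rw [h5]
      exact inv_mem h4

theorem exists_cen : ∃ g ∈ P, g ^ 3 ∈ zpowers y ∧ (∀ h ∈ P, g * h * g⁻¹ * h⁻¹ ∈ zpowers y) ∧ g ∉ zpowers y := by
  have h3 : Fact (Nat.Prime 3) := ⟨Nat.prime_three⟩
  let Z : Subgroup P := (zpowers y).subgroupOf P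
  have hZ : ∀ x : P, x ∈ Z ↔ (x : S) ∈ zpowers y := fun x => mem_subgroupOf
  have hZc : Nat.card Z = 3 := by
    rw [Nat.card_congr (subgroupOfEquivOfLe D.zle).toEquiv, Nat.card_zpowers, D.oy]
  have hn : Z.Normal := by
    refine ⟨fun x hx g => ?_⟩
    rw [hZ] at hx ⊢
    show (g : S) * x * (g : S)⁻¹ ∈ zpowers y
    rw [(D.comm hx g.2).eq, mul_inv_cancel_right]
    exact hx
  have hq : IsPGroup 3 (P ⧸ Z) := (IsPGroup.of_card D.card).to_quotient Z
  have h1 := card_eq_card_quotient_mul_card_subgroup Z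
  rw [hZc, D.card] at h1
  have hnt : Nontrivial (P ⧸ Z) := by
    rw [← Finite.one_lt_card_iff_nontrivial]
    by_contra h2
    have h4 : 3 ^ 2 ∣ 3 ^ a := pow_dvd_pow 3 (by have := D.ha; omega)
    rw [h1] at h4
    have h5 := Nat.le_of_dvd (Nat.mul_pos Nat.card_pos (by norm_num)) h4
    omega
  have hcn := hq.center_nontrivial
  have hd : 3 ∣ Nat.card (center (P ⧸ Z)) := by
    obtain ⟨n, hn'⟩ := IsPGroup.iff_card.1 (hq.to_subgroup (center (P ⧸ Z)))
    rw [hn']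
    refine dvd_pow_self 3 ?_
    rintro rfl
    rw [pow_zero] at hn'
    have := Finite.one_lt_card_iff_nontrivial.2 hcn
    omega
  obtain ⟨⟨c, hc⟩, hco⟩ := exists_prime_orderOf_dvd_card' (G := center (P ⧸ Z)) 3 hd
  rw [Subgroup.orderOf_mk] at hco
  obtain ⟨g, rfl⟩ := QuotientGroup.mk_surjective c
  refine ⟨g, g.2, ?_, fun h hh => ?_, ?_⟩
  · have h4 : ((g : P ⧸ Z)) ^ 3 = 1 := by rw [← hco, pow_orderOf_eq_one]
    rw [← QuotientGroup.mk_pow, QuotientGroup.eq_one_iff, hZ] at h4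
    exact h4
  · have h4 := mem_center_iff.1 hc ((⟨h, hh⟩ : P) : P ⧸ Z)
    have h5 : ((g * ⟨h, hh⟩ * g⁻¹ * ⟨h, hh⟩⁻¹ : P) : P ⧸ Z) = 1 := by
      rw [QuotientGroup.mk_mul, QuotientGroup.mk_mul, QuotientGroup.mk_mul, QuotientGroup.mk_inv, QuotientGroup.mk_inv,
        ← h4, mul_inv_cancel_right, mul_inv_cancel]
    rw [QuotientGroup.eq_one_iff, hZ] at h5
    exact h5
  · intro h4
    have h5 : (g : P ⧸ Z) = 1 := by rw [QuotientGroup.eq_one_iff, hZ]; exact h4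
    rw [h5, orderOf_one] at hco
    norm_num at hco

theorem q1_eq : D.Q1 = P := by
  rcases D.dich (Q := D.Q1) (fun x hx => hx.1) ⟨D.mem, by rw [D.y3]; exact one_mem _, fun h hh => by
    rw [← D.cen h hh, mul_inv_cancel_right, mul_inv_cancel]; exact one_mem _⟩ (by
    rintro x ⟨h1, h2, h3⟩
    refine ⟨D.nz x h1, ?_, fun h hh => ?_⟩
    · rw [conj_pow, (D.commz h2).eq, mul_inv_cancel_right]
      exact h2
    · have h4 : z⁻¹ * h * z⁻¹⁻¹ ∈ P :=
        (mem_normalizer_iff.1 (inv_mem (mem_normalizer_fintype D.nz)) h).1 hh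
      have h5 := h3 _ h4
      have h6 : z * x * z⁻¹ * h * (z * x * z⁻¹)⁻¹ * h⁻¹ =
          z * (x * (z⁻¹ * h * z⁻¹⁻¹) * x⁻¹ * (z⁻¹ * h * z⁻¹⁻¹)⁻¹) * z⁻¹ := by group
      rw [h6, (D.commz h5).eq, mul_inv_cancel_right]
      exact h5) with h | h
  · exact h
  · exfalso
    obtain ⟨g, h1, h2, h3, h4⟩ := D.exists_cen
    exact h4 (h ⟨h1, h2, h3⟩)

theorem cube_mul' {g h : S} (hg : g ∈ P) (hh : h ∈ P) : (g * h) ^ 3 = g ^ 3 * h ^ 3 := by
  refine D.cube_mul hg hh ?_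
  have h1 : g⁻¹ ∈ D.Q1 := by rw [D.q1_eq]; exact inv_mem hg
  have h2 := h1.2.2 h hh
  rwa [inv_inv] at h2

theorem cube_mem {g : S} (hg : g ∈ P) : g ^ 3 ∈ zpowers y := by
  have h1 : g ∈ D.Q1 := by rw [D.q1_eq]; exact hg
  exact h1.2.1

/-- the elements of order three -/
def K : Subgroup S where
  carrier := {g | g ∈ P ∧ g ^ 3 = 1}
  one_mem' := ⟨one_mem _, one_pow _⟩
  mul_mem' := by
    rintro g h ⟨h1, h2⟩ ⟨h3, h4⟩
    exact ⟨mul_mem h1 h3, by rw [D.cube_mul' h1 h3, h2, h4, one_mul]⟩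
  inv_mem' := by
    rintro g ⟨h1, h2⟩
    exact ⟨inv_mem h1, by rw [inv_pow, h2, inv_one]⟩

theorem exponent {x : S} (hx : x ∈ P) : x ^ 3 = 1 := by
  have key : D.K = P ∨ D.K ≤ zpowers y := by
    refine D.dich (fun x hx => hx.1) ⟨D.mem, D.y3⟩ ?_
    rintro g ⟨h1, h2⟩
    exact ⟨D.nz g h1, by rw [conj_pow, h2, mul_one, mul_inv_cancel]⟩
  rcases key with h | h
  · have h1 : x ∈ D.K := by rw [h]; exact hx
    exact h1.2
  · exfalso
    let f : P →* S :=
      { toFun := fun g => (g : S) ^ 3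
        map_one' := one_pow _
        map_mul' := fun g h => D.cube_mul' g.2 h.2 }
    have h1 : Nat.card f.range ∣ 3 := by
      have h2 : f.range ≤ zpowers y := by
        rintro _ ⟨g, rfl⟩
        exact D.cube_mem g.2
      have h3 := card_dvd_of_le h2
      rwa [Nat.card_zpowers, D.oy] at h3
    have h2 : Nat.card f.ker ∣ 3 := by
      have h3 : f.ker.map P.subtype ≤ zpowers y := by
        rintro _ ⟨g, hg, rfl⟩
        exact h ⟨g.2, hg⟩
      have h4 := card_dvd_of_le h3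
      rwa [Nat.card_zpowers, D.oy, card_map_of_injective P.subtype_injective] at h4
    have h3 : Nat.card P = Nat.card f.range * Nat.card f.ker := by
      rw [card_eq_card_quotient_mul_card_subgroup f.ker, Nat.card_congr (QuotientGroup.quotientKerEquivRange f).toEquiv]
    have h4 := mul_dvd_mul h1 h2
    rw [← h3, D.card] at h4
    have h5 := (pow_dvd_pow 3 D.ha).trans h4
    norm_num at h5

end Thr

end three

/-- **elements of order `9` and the numbers** -/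
theorem nb_of_nine [hp3 : Fact (Nat.Prime 3)] {S : Type*} [Group S] [Finite S] [IsSimpleGroup S] (hna : ¬ IsMulCommutative S)
    (ih : IH 3 (Nat.card S)) {x y z : S} {r a : ℕ} (hy : orderOf y = 3) (hr : r.Prime) (hrp : r ≠ 3)
    (hz : orderOf z = r) (hzy : z * y = y * z) (ha : ¬ 3 ^ (a + 1) ∣ Nat.card S)
    (hj : ∀ j, 1 ≤ j → j + 1 < a → ¬ r ∣ 3 ^ j - 1) (h3 : 3 ≤ a) (hx : orderOf x = 9) : NB 3 S := by
  by_contra hnb
  obtain ⟨P, hP, h1, h2⟩ := full_syl hna ih hnb hy hr hrp hz hzy ha hj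
  have D : Thr P y z r a := ⟨h1, hy, hP.mem, fun x hx => mem_centralizer_singleton_iff.1 (hP.le hx), hP.norm z hzy, hr, hrp,
    hz, hzy, h2, hj, h3⟩
  -- a conjugate of `x` in `P`
  have hs : 3 ^ a = 3 ^ (Nat.card S).factorization 3 := by
    congr 1
    have h4 : 3 ^ a ∣ Nat.card S := by rw [← h1]; exact card_subgroup_dvd_card _
    have h5 := (hp3.out.pow_dvd_iff_le_factorization Nat.card_pos.ne').1 h4
    have h6 : ¬ a + 1 ≤ (Nat.card S).factorization 3 := fun h => ha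
      ((hp3.out.pow_dvd_iff_le_factorization Nat.card_pos.ne').2 h)
    omega
  let Q : Sylow 3 S := Sylow.ofCard P (by rw [h1, hs])
  have hxg : IsPGroup 3 (zpowers x) := IsPGroup.of_card (n := 2) (by rw [Nat.card_zpowers, hx]; norm_num)
  obtain ⟨Q', hQ'⟩ := hxg.exists_le_sylow
  obtain ⟨g, hg⟩ := MulAction.exists_smul_eq S Q' Q
  have h4 : g * x * g⁻¹ ∈ P := by
    have h5 := Subgroup.smul_mem_pointwise_smul x (MulAut.conj g) (Q' : Subgroup S) (hQ' (mem_zpowers x))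
    rw [← Sylow.coe_subgroup_smul, hg] at h5
    exact h5
  have h5 := D.exponent h4
  rw [conj_pow, mul_inv_eq_one, mul_eq_left] at h5
  have h6 := orderOf_dvd_of_pow_eq_one h5
  rw [hx] at h6
  norm_num at h6

end Cfsg.Agent.H978.NB
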