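import Cfsg.Agent.H7.NBpComp
import Cfsg.Agent.H665.NoPQ

/-!
# S5003: a nonprincipal block from `HasDZ` (helper978)
-/

set_option autoImplicit false

namespace Cfsg.Agent.H978.NB

open Cfsg Subgroup Cfsg.Agent.H7.NBp Cfsg.Agent.H665.NoPQ

/-- a character of `p`-defect zero, `p ∣ |G|` -/
theorem nb_of_hasDZ {p : ℕ} [hp : Fact p.Prime] {G : Type*} [Group G] [Finite G] (hpG : p ∣ Nat.card G)
    (h : HasDZ p G) : NB p G := by
  obtain ⟨χ, hχ⟩ := h
  have hpos := Nat.card_pos (α := G)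
  have hd := Blocks.Knorr.charDegree_dvd χ.2
  refine NB.of_dz' χ ?_ ?_
  · intro h1
    rw [h1, Nat.factorization_one] at hχ
    have h2 := hp.out.factorization_pos_of_dvd hpos.ne' hpG
    rw [← hχ] at h2
    exact lt_irrefl _ h2
  · intro h2
    have h3 := Nat.div_pos (Nat.le_of_dvd hpos hd) (Nat.pos_of_dvd_of_pos hd hpos)
    have h4 := hp.out.factorization_pos_of_dvd h3.ne' h2
    rw [Nat.factorization_div hd, Finsupp.tsub_apply, hχ, Nat.sub_self] at h4
    exact lt_irrefl _ h4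

end Cfsg.Agent.H978.NB
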