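import Cfsg.Agent.H7.NBpCount

/-!
# S5003: 3-transposition groups, `p ≥ 5` (helper978)
-/

set_option autoImplicit false

namespace Cfsg.Agent.H978.NB

open Cfsg Subgroup Cfsg.Agent.H7.NBp

/-- for `p ≥ 5` a product `d e` of two 3-transpositions is a `p`-element only for `d = e` -/
theorem nb_of_three {p : ℕ} [hp : Fact p.Prime] (h2 : p ≠ 2) (h3 : p ≠ 3) {G : Type*} [Group G] [Finite G] {T : Set G}
    (hT : ∀ t ∈ T, ∀ g : G, g * t * g⁻¹ ∈ T) (hsq : ∀ t ∈ T, t * t = 1) {d : G} (hd : d ∈ T) (hd1 : d ≠ 1)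
    (three : ∀ a ∈ T, ∀ b ∈ T, a * b = b * a ∨ a * b * a = b * a * b) : NB p G := by
  have key : ∀ (x : G) (n j : ℕ), Nat.Coprime n p → x ^ n = 1 → x ^ p ^ j = 1 → x = 1 := by
    intro x n j hn h h'
    have h4 := Nat.dvd_gcd (orderOf_dvd_of_pow_eq_one h) (orderOf_dvd_of_pow_eq_one h')
    have h5 : Nat.gcd n (p ^ j) = 1 := Nat.Coprime.pow_right j hn
    rw [h5, Nat.dvd_one] at h4
    exact orderOf_eq_one_iff.1 h4
  have c2 : Nat.Coprime 2 p := (Nat.coprime_primes Nat.prime_two hp.out).2 h2.symm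
  have c3 : Nat.Coprime 3 p := (Nat.coprime_primes Nat.prime_three hp.out).2 h3.symm
  refine NB.of_unique (g := d) (fun g k hk => hT k hk g) ?_ hd ?_
  · rintro ⟨j, hj⟩
    exact hd1 (key d 2 j c2 (by rw [pow_two]; exact hsq d hd) hj)
  · intro k hk j hj
    have hki : k⁻¹ = k := inv_eq_of_mul_eq_one_left (hsq k hk)
    rw [hki] at hj
    have h1 : d * k = 1 := by
      rcases three d hd k hk with h | h
      · refine key _ 2 j c2 ?_ hj
        calc (d * k) ^ 2 = d * k * (d * k) := pow_two _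
          _ = d * k * (k * d) := by rw [h]
          _ = d * (k * k) * d := by group
          _ = 1 := by rw [hsq k hk, mul_one, hsq d hd]
      · refine key _ 3 j c3 ?_ hj
        calc (d * k) ^ 3 = (d * k * d) * (k * d * k) := by rw [pow_succ, pow_two]; group
          _ = (k * d * k) * (k * d * k) := by rw [h]
          _ = k * d * (k * k) * d * k := by group
          _ = k * (d * d) * k := by rw [hsq k hk]; group
          _ = 1 := by rw [hsq d hd, mul_one, hsq k hk]
    rw [mul_eq_one_iff_inv_eq] at h1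
    rw [← h1]
    exact inv_eq_of_mul_eq_one_left (hsq d hd)

end Cfsg.Agent.H978.NB
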