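import Cfsg.Agent.H978.NB.Char
import Cfsg.Agent.H978.NB.ThreeTr
import Cfsg.Agent.LThreeFi22.Inst

/-!
# S5003: the row `Fi₂₂` (helper978)
-/

set_option autoImplicit false

namespace Cfsg.Agent.H978.NB

open Cfsg Subgroup Cfsg.Agent.H7.NBp Cfsg.Agent.H718.NBIH Cfsg.Agent.LThreeFi22

/-- elements of prime order in a centralizer -/
theorem exists_comm_of_dvd {S : Type*} [Group S] [Finite S] {y : S} {r : ℕ} (hr : r.Prime)
    (h : r ∣ Nat.card ↥(centralizer ({y} : Set S))) : ∃ z : S, orderOf z = r ∧ z * y = y * z := by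
  have : Fact r.Prime := ⟨hr⟩
  obtain ⟨⟨z, hz⟩, ho⟩ := exists_prime_orderOf_dvd_card' (G := ↥(centralizer ({y} : Set S))) r h
  rw [Subgroup.orderOf_mk] at ho
  exact ⟨z, ho, mem_centralizer_singleton_iff.1 hz⟩

theorem nb_fi22 {p : ℕ} [hp : Fact p.Prime] (h2 : p ≠ 2) (S : Type) [Group S] [Finite S] [IsSimpleGroup S]
    (h : Spor.IsoFi22 S) (ih : IH p (Nat.card S)) : NB p S := by
  obtain ⟨e⟩ := h
  have C := LThreeFi22.Inst.ctx e
  obtain ⟨a, ha, b, hb, -, -, hab, -⟩ := C.mupos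
  by_cases h3 : p = 3
  · subst h3
    have hna : ¬ IsMulCommutative S := fun hc => hab (hc.is_comm.comm a b)
    have hcard := C.card_three ha hb hab
    have hy3 : (a * b) ^ 3 = 1 := C.cube ha hb hab
    have hy1 : a * b ≠ 1 := by
      intro h1
      rw [mul_eq_one_iff_inv_eq] at h1
      exact hab (by rw [← h1]; group)
    by_contra hnb
    obtain ⟨P, hP⟩ := exists_loc hna ih hnb ⟨1, by rw [pow_one]; exact hy3⟩ hy1
    have hd := card_dvd_of_le hP.le
    rw [hcard] at hd
    obtain ⟨z, hz, hzy⟩ := exists_comm_of_dvd (y := a * b) (r := 7) (by norm_num) (by rw [hcard]; norm_num)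
    obtain ⟨u, hu, huy⟩ := exists_comm_of_dvd (y := a * b) (r := 5) (by norm_num) (by rw [hcard]; norm_num)
    have hone : ∀ {w : S} {r m j : ℕ}, orderOf w = r → r.Prime → (∀ w : S, w ^ r = 1 → w ≠ 1 →
        ¬ 9 ∣ Nat.card ↥(centralizer ({w} : Set S))) → 1 ≤ m →
        Nat.card (P ⊓ centralizer ({w} : Set S) : Subgroup S) = 3 ^ m → m = 1 := by
      intro w r m j hw hr h9 hm hc
      by_contra hne
      refine h9 w (by rw [← hw, pow_orderOf_eq_one]) (by rintro rfl; rw [orderOf_one] at hw; exact hr.one_lt.ne hw) ?_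
      have h1 : Nat.card (P ⊓ centralizer ({w} : Set S) : Subgroup S) ∣ Nat.card ↥(centralizer ({w} : Set S)) :=
        card_dvd_of_le inf_le_right
      rw [hc] at h1
      exact (pow_dvd_pow 3 (show 2 ≤ m by omega)).trans h1
    obtain ⟨m, j, h1, h4, h5, h6, h7⟩ := hP.step hy1 (by norm_num) (by norm_num) hz hzy
    obtain ⟨n, i, g1, g4, g5, g6, g7⟩ := hP.step hy1 (by norm_num) (by norm_num) hu huy
    obtain rfl := hone (j := 0) hz (by norm_num) (fun w h h' => C.nine_seven h h') h1 h6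
    obtain rfl := hone (j := 0) hu (by norm_num) (fun w h h' => C.nine_five h h') g1 g6
    have hb : ∀ j : ℕ, Nat.card P = 3 ^ (1 + j) → j ≤ 6 := by
      intro j hj
      by_contra h8
      rw [hj] at hd
      have h9 := (pow_dvd_pow 3 (show 8 ≤ 1 + j by omega)).trans hd
      revert h9
      norm_num
    have h8 := hb j h5
    have g8 := hb i g5
    have h9 : 3 ^ (1 + j) = 3 ^ (1 + i) := by rw [← h5, ← g5]
    have h10 := Nat.pow_right_injective (le_refl 2 |>.trans (by norm_num : 2 ≤ 3)) h9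
    clear hb h9 h5 g5 h6 g6
    interval_cases j <;> interval_cases i <;> omega
  · exact nb_of_three h2 h3 C.conj C.sq ha (C.ne1 a ha) C.three

end Cfsg.Agent.H978.NB
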