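import Cfsg.Agent.H978.NB.LocDvd
import Cfsg.Agent.H978.NB.DZ
import Cfsg.Agent.H978.NB.Fi22
import Cfsg.Agent.H841.Phi
import Cfsg.Agent.H843.OCSporB
import Cfsg.Agent.H419.Spor.Fi

/-!
# S5003: the row `Fi₂₄'` (helper978)
-/

set_option autoImplicit false

namespace Cfsg.Agent.H978.NB

open Cfsg Subgroup Cfsg.Agent.H7.NBp Cfsg.Agent.H718.NBIH

namespace FiTF

open Cfsg.Agent.Fischer.Fi24RepDef Cfsg.Agent.Fischer.Fi24Rep Cfsg.Agent.Fischer.Y322 Cfsg.Agent.Fischer.Y322Iso
open Cfsg.Agent.R08.FiTwentyFour (index_commutator odd)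
open Cfsg.Agent.H841.Five Cfsg.Agent.LThreeFi24.SNine
open Cfsg.Spor (Fi24 Fi24')

theorem mem_comm_of_odd {x : Fi24} {n : ℕ} (hn : Odd n) (h : x ^ n = 1) : x ∈ commutator Fi24 := by
  obtain ⟨k, rfl⟩ := hn
  have h1 : x = (x ^ (k + 1)) ^ 2 := by
    rw [← pow_mul, show (k + 1) * 2 = (2 * k + 1) + 1 by ring, pow_succ, h, one_mul]
  rw [h1]
  exact sq_mem_of_index_two index_commutator _

theorem exists_five {r : ℕ} (hr : r = 3 ∨ r = 7) : ∃ y z : Fi24', orderOf y = 5 ∧ orderOf z = r ∧ z * y = y * z := by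
  have hp : r.Prime := by rcases hr with rfl | rfl <;> norm_num
  have : Fact r.Prime := ⟨hp⟩
  have hodd : Odd r := by rcases hr with rfl | rfl <;> decide
  obtain ⟨σ, hσ⟩ := exists_prime_orderOf_dvd_card' (G := Equiv.Perm (Fin 9)) r (by
    rw [Nat.card_perm, Nat.card_fin]
    rcases hr with rfl | rfl <;> decide)
  have h1 : orderOf (Phi σ) = r := by rw [orderOf_injective Phi Phi_injective, hσ]
  refine ⟨⟨y0, mem_comm_of_odd (n := 5) (by decide) (by exact Cfsg.Agent.LThreeFi24.FiveConj.e5)⟩,
    ⟨Phi σ, mem_comm_of_odd hodd (by rw [← h1, pow_orderOf_eq_one])⟩, ?_, ?_, Subtype.ext (Phi_comm_y0 σ)⟩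
  · rw [Subgroup.orderOf_mk, Cfsg.Agent.LThreeFi24.FiveConj.orderOf_y0]
  · rw [Subgroup.orderOf_mk, h1]

theorem phi_mem_comm (x : H8) : Cfsg.Agent.H840.Lk.phi x ∈ commutator Fi24 := by
  let q : H8 →* Fi24 ⧸ commutator Fi24 := (QuotientGroup.mk' (commutator Fi24)).comp Cfsg.Agent.H840.Lk.phi
  have hs := simple_H8
  have hq : q.ker = ⊤ := by
    rcases (inferInstance : q.ker.Normal).eq_bot_or_eq_top with h | h
    · exfalso
      have h1 : Nat.card H8 ∣ Nat.card (Fi24 ⧸ commutator Fi24) := by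
        rw [Nat.card_congr (MonoidHom.ofInjective ((MonoidHom.ker_eq_bot_iff q).1 h)).toEquiv]
        exact card_subgroup_dvd_card _
      have h2 : Nat.card (Fi24 ⧸ commutator Fi24) = 2 := index_commutator
      rw [h2, card_H8] at h1
      revert h1
      norm_num
    · exact h
  have h1 : x ∈ q.ker := by rw [hq]; exact mem_top x
  exact (QuotientGroup.eq_one_iff _).1 h1

theorem mem_lk : gen .l * gen .k ∈ commutator Fi24 :=
  (Subgroup.mul_mem_iff_of_index_two index_commutator).2 (iff_of_false (odd (Cfsg.Agent.H840.Lk.gen_mem .l))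
    (odd (Cfsg.Agent.H840.Lk.gen_mem .k)))

theorem three [Finite Fi24'] (hS : IsSimpleGroup Fi24') (hna : ¬ IsMulCommutative Fi24') (ih : IH 3 (Nat.card Fi24')) :
    haveI : Fact (Nat.Prime 3) := ⟨Nat.prime_three⟩
    NB 3 Fi24' := by
  have h3 : Fact (Nat.Prime 3) := ⟨Nat.prime_three⟩
  have hs := simple_H8
  have hf : Finite H8 := Nat.finite_of_card_ne_zero (by rw [card_H8]; norm_num)
  by_contra hnb
  let y : Fi24' := ⟨gen .l * gen .k, mem_lk⟩
  have hy : orderOf y = 3 := by
    rw [Subgroup.orderOf_mk, Cfsg.Agent.H843.OCSpor.order_lk]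
  have hy1 : y ≠ 1 := by
    intro h
    rw [h, orderOf_one] at hy
    norm_num at hy
  obtain ⟨P, hP⟩ := exists_loc hna ih hnb ⟨1, by rw [pow_one, ← hy, pow_orderOf_eq_one]⟩ hy1
  let f : H8 →* Fi24' := Cfsg.Agent.H840.Lk.phi.codRestrict (commutator Fi24) phi_mem_comm
  have hfi : Function.Injective f := fun a b hab => Cfsg.Agent.H840.Lk.phi_injective (congrArg Subtype.val hab)
  have hfc : ∀ x, f x * y = y * f x := by
    intro x
    apply Subtype.ext
    show Cfsg.Agent.H840.Lk.phi x * (gen .l * gen .k) = gen .l * gen .k * Cfsg.Agent.H840.Lk.phi x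
    obtain ⟨h1, h2⟩ := Cfsg.Agent.H840.Lk.mem_Clk.1 (Cfsg.Agent.H840.Lk.B8_le_Clk (Cfsg.Agent.H840.Lk.phi_mem x))
    exact (Commute.mul_right h1 h2).eq
  have h7 := hP.mul_dvd f hfi hfc (r := 7) (by norm_num) (by norm_num) (by rw [card_H8]; norm_num)
  have : Fact (Nat.Prime 7) := ⟨by norm_num⟩
  obtain ⟨x, hx⟩ := exists_prime_orderOf_dvd_card' (G := H8) 7 (by rw [card_H8]; norm_num)
  obtain ⟨m, j, h1, h2, h4, -, h5⟩ := hP.step hy1 (r := 7) (by norm_num) (by norm_num)
    (by rw [orderOf_injective f hfi, hx]) (hfc x)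
  have hj : 6 ≤ j := by
    by_contra hj
    have hj5 : j ≤ 5 := by omega
    clear h4
    interval_cases j <;> omega
  have hC : Nat.card ↥(centralizer ({y} : Set Fi24')) ∣ 3 * 29713078886400 := by
    have := Cfsg.Agent.H843.OCSpor.finite_fi24
    refine Dvd.dvd.trans ?_ Cfsg.Agent.H843.OCSpor.card_cent_lk_dvd
    rw [← card_map_of_injective (K := centralizer ({y} : Set Fi24')) (Subgroup.subtype_injective (commutator Fi24))]
    refine card_dvd_of_le ?_
    rintro _ ⟨x, hx, rfl⟩
    rw [mem_centralizer_singleton_iff]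
    exact congrArg Subtype.val (mem_centralizer_singleton_iff.1 hx)
  have h8 := h7.trans hC
  rw [h4, card_H8] at h8
  have h9 := (mul_dvd_mul (pow_dvd_pow 3 (show 7 ≤ m + j by omega)) (dvd_refl 4585351680)).trans h8
  revert h9
  norm_num

theorem main {p : ℕ} [hp : Fact p.Prime] (h2 : p ≠ 2) [Finite Fi24'] (hS : IsSimpleGroup Fi24')
    (ih : IH p (Nat.card Fi24')) : NB p Fi24' := by
  have hcard : Nat.card Fi24' = 1255205709190661721292800 := Cfsg.Agent.S1698.result.2
  have hna : ¬ IsMulCommutative Fi24' := by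
    intro h
    have h1 : (Nat.card Fi24').Prime := by
      let _ : CommGroup Fi24' := { (inferInstance : Group Fi24') with mul_comm := fun a b => h.is_comm.comm a b }
      exact IsSimpleGroup.prime_card (α := Fi24')
    rw [hcard] at h1
    norm_num at h1
  have hsub : ∀ (y : Fi24') (n : ℕ), ¬ n ∣ 1255205709190661721292800 → ¬ n ∣ Nat.card ↥(centralizer ({y} : Set Fi24')) := by
    intro y n hn h
    apply hn
    rw [← hcard]
    exact h.trans (card_subgroup_dvd_card _)
  by_cases hpd : p ∣ Nat.card Fi24'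
  · have hpd' := hpd
    rw [hcard, show (1255205709190661721292800 : ℕ) = 2 ^ 21 * 3 ^ 16 * 5 ^ 2 * 7 ^ 3 * 11 * 13 * 17 * 23 * 29 by norm_num] at hpd'
    have hpr := hp.out
    have key : ∀ {q n : ℕ}, q.Prime → p ∣ q ^ n → p = q := fun hq h =>
      (Nat.prime_dvd_prime_iff_eq hpr hq).1 (hpr.dvd_of_dvd_pow h)
    have key' : ∀ {q : ℕ}, q.Prime → p ∣ q → p = q := fun hq h => (Nat.prime_dvd_prime_iff_eq hpr hq).1 h
    rcases (hpr.dvd_mul).1 hpd' with hpd' | h
    · rcases (hpr.dvd_mul).1 hpd' with hpd' | h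
      · rcases (hpr.dvd_mul).1 hpd' with hpd' | h
        · rcases (hpr.dvd_mul).1 hpd' with hpd' | h
          · rcases (hpr.dvd_mul).1 hpd' with hpd' | h
            · rcases (hpr.dvd_mul).1 hpd' with hpd' | h
              · rcases (hpr.dvd_mul).1 hpd' with hpd' | h
                · rcases (hpr.dvd_mul).1 hpd' with h | h
                  · exact absurd (key Nat.prime_two h) h2
                  · obtain rfl := key Nat.prime_three h
                    exact three hS hna ih
                · obtain rfl := key (by norm_num) h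
                  obtain ⟨y, z, hy, hz, hzy⟩ := exists_five (r := 3) (Or.inl rfl)
                  refine nb_of_commute hna ih (a := 2) hy (by norm_num) (by norm_num) hz hzy (hsub _ _ (by norm_num)) ?_
                  intro j h1 h2
                  obtain rfl : j = 1 := by omega
                  norm_num
              · obtain rfl := key (by norm_num) h
                obtain ⟨y, z, hy, hz, hzy⟩ := exists_five (r := 7) (Or.inr rfl)
                refine nb_of_commute hna ih (a := 3) hz (by norm_num) (by norm_num) hy hzy.symm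
                  (hsub _ _ (by norm_num)) ?_
                intro j h1 h2
                obtain rfl | rfl : j = 1 ∨ j = 2 := by omega
                · norm_num
                · norm_num
            · obtain rfl := key' (by norm_num) h
              exact nb_of_hasDZ hpd Cfsg.Agent.H419.Spor.Fi.hasDZ_fi24'
          · obtain rfl := key' (by norm_num) h
            obtain ⟨t, a, b, Q, ht, htab⟩ := Cfsg.Agent.H713.Spor.FiTF.exists_pair
            obtain ⟨z, hz, hzt⟩ := exists_comm_of_dvd (y := t) (r := 13) (by norm_num)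
              ((show 13 ∣ 2 * 64561751654400 by norm_num).trans (Cfsg.Agent.H713.Spor.FiTF.dvd_pair Q htab))
            refine nb_of_commute hna ih (a := 1) hz Nat.prime_two (by norm_num) ht hzt.symm
              (hsub _ _ (by norm_num)) ?_
            intro j h1 h2
            omega
        · obtain rfl := key' (by norm_num) h
          exact nb_of_hasDZ hpd Cfsg.Agent.H713.Spor.FiTF.hasDZ_17
      · obtain rfl := key' (by norm_num) h
        exact nb_of_hasDZ hpd Cfsg.Agent.H713.Spor.FiTF.hasDZ_23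
    · obtain rfl := key' (by norm_num) h
      exact nb_of_hasDZ hpd Cfsg.Agent.H713.Spor.FiTF.hasDZ_29
  · have : Nontrivial Fi24' := hS.toNontrivial
    exact NB.of_not_dvd hpd

end FiTF

theorem nb_fi24' {p : ℕ} [hp : Fact p.Prime] (h2 : p ≠ 2) (S : Type) [Group S] [Finite S] [IsSimpleGroup S]
    (h : Spor.IsoFi24' S) (ih : IH p (Nat.card S)) : NB p S := by
  obtain ⟨e⟩ := h
  have hf : Finite Spor.Fi24' := Finite.of_equiv S e.toEquiv
  have hs : IsSimpleGroup Spor.Fi24' := e.symm.isSimpleGroup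
  refine NB.iso e.symm (FiTF.main h2 hs ?_)
  rw [← Nat.card_congr e.toEquiv]
  exact ih

end Cfsg.Agent.H978.NB
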