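import Cfsg.Agent.H978.NB.Syl
import Cfsg.Agent.H493.NB.HS
import Cfsg.Agent.H493.NB.IMdz
import Cfsg.Agent.H843.IMC.RowsB
import Cfsg.Agent.H555.TwoSp.CoThreeSeven
import Cfsg.Agent.H604.Sax.McLEl

/-!
# S5003: the row `Co₃` (helper978)

* `p = 3` : elements of order 3 and 7 commute, there are elements of order 9;
* `p = 5` : two elements `u`, `v` of `HS` of order 5 which commute with `y`, and `u v` has order 3;
* `p = 7, 11, 23` : a character of degree divisible by `p`.
-/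

set_option autoImplicit false
set_option maxRecDepth 100000

namespace Cfsg.Agent.H978.NB.CoThree

open Cfsg Subgroup Equiv Cfsg.Agent Cfsg.Agent.H7.NBp Cfsg.Agent.H718.NBIH Cfsg.Agent.H978.NB
open Cfsg.Agent.SporadicA.PermTab Cfsg.Agent.HN Cfsg.Agent.HN.HS100 Cfsg.Agent.H493.NB.HS

section seven

variable {T : Type} [Group T]

/-- elements of order 7 commute with elements of order 3 -/
theorem exists_three (h : Spor.IsoCo3 T) [Finite T] {z : T} (hz : orderOf z = 7) :
    ∃ y : T, orderOf y = 3 ∧ z * y = y * z := by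
  obtain ⟨k, m, hkm, h1⟩ := Cfsg.Agent.H555.TwoSp.cn7 h
  have h2 := (h1 (zpowers z) (by rw [Nat.card_zpowers, hz])).1
  have h3 : 3 ∣ Nat.card ↥(centralizer ((zpowers z : Subgroup T) : Set T)) := by
    rw [h2]
    rcases hkm with ⟨rfl, -⟩ | ⟨rfl, -⟩ | ⟨rfl, -⟩ | ⟨rfl, -⟩ <;> norm_num
  have h4 : Fact (Nat.Prime 3) := ⟨Nat.prime_three⟩
  obtain ⟨⟨y, hy⟩, hyo⟩ := exists_prime_orderOf_dvd_card' (G := ↥(centralizer ((zpowers z : Subgroup T) : Set T))) 3 h3
  rw [Subgroup.orderOf_mk] at hyo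
  exact ⟨y, hyo, mem_centralizer_iff.1 hy z (mem_zpowers z)⟩

end seven

/-! ### Two elements of `HS` -/

/-- an element of order 5 -/
def tu : ℕ := 0xb808c0083906a0302b81a03205c15011004058028150ba0741c04a0a00c41281e07e11c0905608a0202781f0140701b84102010c2605309a0181b0580480d01d8070a406c068460740a02a04e01c03c3182f0640802f80b07a1542885e06618822027084060180290901680182d04c12c108490c20f8020130800ac0005b0c00b80482c0280f02c822
/-- an element of order 5 -/
def tv : ℕ := 0x980f00785a06202c200250341240703501809c0181600c0c01983902a0281e85800e0981d05d0400843100008e0042884a03a06c1184e0540dc020530c00600681903e04c1581101007819041088148278460381200a03f07c12c1b0550581582f02e09a170110280240a42a05b02e0b41d82f07000831859048114028420681842800908615c0805f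

theorem inu : InG Q tu := in_word
  [0, 2, 2, 2, 1, 1, 2, 2, 1, 1, 1, 1, 1, 0, 2, 2, 2, 2, 2, 0, 2, 2, 2, 2, 2, 1, 1, 1, 1, 2, 2, 2, 2, 2, 1, 1, 1, 1,
    1, 2, 2, 2, 2, 2, 0, 1, 2, 1, 2, 2, 2, 2, 0, 1, 2, 1, 2, 2, 2, 2, 0, 1, 2, 1, 2, 2, 2, 2, 2, 1, 2, 1, 1, 2, 0,
    2, 0, 1, 2, 2, 2, 2, 1, 1, 1, 1, 2, 2, 2, 0]
  (by decide +kernel)

theorem inv : InG Q tv := in_word
  [2, 2, 2, 2, 1, 1, 2, 2, 2, 2, 2, 1, 1, 1, 1, 2, 2, 2, 2, 0, 1, 1, 1, 1, 1, 0, 2, 2, 2, 2, 2, 0, 2, 2, 2, 2, 2, 1,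
    1, 1, 1, 2, 2, 2, 2, 2, 1, 1, 1, 1, 1, 2, 2, 2, 2, 2, 0, 1, 2, 1, 2, 2, 2, 2, 0, 1, 2, 1, 2, 2, 2, 2, 0, 1, 2,
    1, 2, 2, 2, 2, 2, 1, 2, 1, 1, 2, 0, 2, 0, 1, 0, 2, 2, 1, 1, 2, 1, 1, 1, 1, 2, 2]
  (by decide +kernel)

theorem chk_u5 : allB (fun i => Nat.beq (lk tu (lk tu (lk tu (lk tu (lk tu i))))) i) 100 = true := by decide +kernel
theorem chk_v5 : allB (fun i => Nat.beq (lk tv (lk tv (lk tv (lk tv (lk tv i))))) i) 100 = true := by decide +kernel
theorem chk_uy : allB (fun i => Nat.beq (lk tu (lk ty i)) (lk ty (lk tu i))) 100 = true := by decide +kernel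
theorem chk_vy : allB (fun i => Nat.beq (lk tv (lk ty i)) (lk ty (lk tv i))) 100 = true := by decide +kernel
theorem chk_uv : allB (fun i => Nat.beq (lk tu (lk tv (lk tu (lk tv (lk tu (lk tv i)))))) i) 100 = true := by
  decide +kernel
theorem chk_ne : allB (fun i => Nat.beq (lk tu (lk tv i)) i) 100 = false := by decide +kernel

/-- the elements of `Q ≅ HS` -/
theorem exists_yuv : ∃ y u v : ↥Q, orderOf y = 5 ∧ u ^ 5 = 1 ∧ v ^ 5 = 1 ∧ orderOf (u * v) = 3 ∧ u * y = y * u ∧
    v * y = y * v := by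
  obtain ⟨y, z, hyi, -, hy5, -, -⟩ := exists_yz
  obtain ⟨u, hu, hui⟩ := inu
  obtain ⟨v, hv, hvi⟩ := inv
  refine ⟨y, ⟨u, hu⟩, ⟨v, hv⟩, hy5, ?_, ?_, ?_, ?_, ?_⟩
  · apply Subtype.ext
    show u ^ 5 = 1
    ext i
    have h2 := Nat.eq_of_beq_eq_true ((allB_iff _ _).1 chk_u5 i i.2)
    simp only [pow_succ, pow_zero, one_mul, Perm.mul_apply, hui, Perm.one_apply]
    exact h2
  · apply Subtype.ext
    show v ^ 5 = 1
    ext i
    have h2 := Nat.eq_of_beq_eq_true ((allB_iff _ _).1 chk_v5 i i.2)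
    simp only [pow_succ, pow_zero, one_mul, Perm.mul_apply, hvi, Perm.one_apply]
    exact h2
  · have : Fact (Nat.Prime 3) := ⟨Nat.prime_three⟩
    refine orderOf_eq_prime ?_ ?_
    · apply Subtype.ext
      show (u * v) ^ 3 = 1
      ext i
      have h2 := Nat.eq_of_beq_eq_true ((allB_iff _ _).1 chk_uv i i.2)
      simp only [pow_succ, pow_zero, one_mul, Perm.mul_apply, hui, hvi, Perm.one_apply]
      exact h2
    · intro h
      have h1 : u * v = 1 := congrArg Subtype.val h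
      have h2 : allB (fun i => Nat.beq (lk tu (lk tv i)) i) 100 = true := by
        rw [allB_iff]
        intro i hi
        have h3 := hui (v ⟨i, hi⟩)
        rw [hvi ⟨i, hi⟩] at h3
        have h4 : u (v ⟨i, hi⟩) = ⟨i, hi⟩ := by rw [← Perm.mul_apply, h1, Perm.one_apply]
        rw [h4] at h3
        rw [← h3]
        exact Nat.beq_refl i
      rw [chk_ne] at h2
      exact absurd h2 (by decide)
  · apply Subtype.ext
    show u * (y : Perm (Fin 100)) = (y : Perm (Fin 100)) * u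
    ext i
    have h2 := Nat.eq_of_beq_eq_true ((allB_iff _ _).1 chk_uy i i.2)
    simp only [Perm.mul_apply, hyi, hui]
    exact h2
  · apply Subtype.ext
    show v * (y : Perm (Fin 100)) = (y : Perm (Fin 100)) * v
    ext i
    have h2 := Nat.eq_of_beq_eq_true ((allB_iff _ _).1 chk_vy i i.2)
    simp only [Perm.mul_apply, hyi, hvi]
    exact h2

/-- a simple group of order divisible by 4 is not commutative -/
theorem not_comm {T : Type*} [Group T] [IsSimpleGroup T] {n : ℕ} (hn : Nat.card T = n) (h4 : 4 ∣ n) :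
    ¬ IsMulCommutative T := by
  intro h
  let _ : CommGroup T := { (inferInstance : Group T) with mul_comm := h.is_comm.comm }
  have h3 : (Nat.card T).Prime := IsSimpleGroup.prime_card
  rw [hn] at h3
  have h5 : (2 : ℕ) ∣ n := (by norm_num : (2 : ℕ) ∣ 4).trans h4
  have h6 := (Nat.prime_dvd_prime_iff_eq Nat.prime_two h3).1 h5
  rw [← h6] at h4
  norm_num at h4

theorem nb_co3 {p : ℕ} [hp : Fact p.Prime] (h2 : p ≠ 2) (S : Type) [Group S] [Finite S] [IsSimpleGroup S]
    (h : Spor.IsoCo3 S) (ih : IH p (Nat.card S)) : NB p S := by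
  have hc : Nat.card S = 495766656000 := NotCT.Orders.co3 h
  have hna : ¬ IsMulCommutative S := not_comm hc (by norm_num)
  by_cases hd : p ∣ Nat.card S
  swap
  · exact NB.of_not_dvd hd
  have hm : p ∈ [2, 3, 5, 7, 11, 23] :=
    H852.IMSuz.prime_cases' hp.out [2, 3, 5, 7, 11, 23] (by decide) 10 (n := Nat.card S) hd (by rw [hc]; norm_num)
  simp only [List.mem_cons, List.not_mem_nil, or_false] at hm
  have hIM := H843.IMC.Rows.im_co3 h hd
  rcases hm with rfl | rfl | rfl | rfl | rfl | rfl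
  · exact absurd rfl h2
  · have h7 : Fact (Nat.Prime 7) := ⟨by norm_num⟩
    obtain ⟨z, hz⟩ := exists_prime_orderOf_dvd_card' (G := S) 7 (by rw [hc]; norm_num)
    obtain ⟨y, hy, hzy⟩ := exists_three h hz
    obtain ⟨e⟩ := h
    obtain ⟨x, hx⟩ := H604.Sax.McLEl.exists_nine_co3
    refine nb_of_nine (x := e.symm x) (r := 7) (a := 7) hna ih hy (by norm_num) (by norm_num) hz hzy (by rw [hc]; norm_num) ?_
      (by norm_num) (by rw [e.symm.orderOf_eq]; exact hx)
    intro j h1 h3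
    have h4 : j < 6 := by omega
    clear h3
    interval_cases j <;> norm_num
  · obtain ⟨y, u, v, hy, hu, hv, huv, huy, hvy⟩ := exists_yuv
    obtain ⟨⟨f⟩, -⟩ := HN.AutHS.nonempty_Q
    obtain ⟨e⟩ := h
    let g : ↥Q →* S := e.symm.toMonoidHom.comp ((Subgroup.inclusion (inf_le_left : Spor.HS ≤ Spor.Co3)).comp f.toMonoidHom)
    have hg : Function.Injective g :=
      e.symm.injective.comp ((Subgroup.inclusion_injective (inf_le_left : Spor.HS ≤ Spor.Co3)).comp f.injective)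
    refine nb_of_gen (y := g y) (u := g u) (v := g v) (r := 3) (a := 3) hna ih (by rw [orderOf_injective g hg, hy])
      (by norm_num) (by norm_num) (by rw [← map_pow, hu, map_one]) (by rw [← map_pow, hv, map_one])
      (by rw [← map_mul, orderOf_injective g hg, huv]) (by rw [← map_mul, huy, map_mul]) (by rw [← map_mul, hvy, map_mul])
      (by rw [hc]; norm_num) ?_
    intro j h1 h3
    obtain rfl : j = 1 := by omega
    norm_num
  · exact H493.NB.of_IM hIM (by rw [hc]; norm_num)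
  · exact H493.NB.of_IM hIM (by rw [hc]; norm_num)
  · exact H493.NB.of_IM hIM (by rw [hc]; norm_num)

end Cfsg.Agent.H978.NB.CoThree
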