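import Cfsg.Agent.H978.NB.CoTwo
import Cfsg.Agent.H978.NB.CoThree
import Cfsg.Agent.H843.IMC.RowsA
import Cfsg.Agent.H665.SporCo

/-!
# S5003: the row `Co₂` (helper978)
-/

set_option autoImplicit false

namespace Cfsg.Agent.H978.NB.CoTwo

open Cfsg Subgroup Cfsg.Agent Cfsg.Agent.H7.NBp Cfsg.Agent.H718.NBIH Cfsg.Agent.H978.NB

/-- the row from `p = 5` -/
theorem nb_co2_of {p : ℕ} [hp : Fact p.Prime] (h2 : p ≠ 2) (S : Type) [Group S] [Finite S] [IsSimpleGroup S]
    (h : Spor.IsoCo2 S) (ih : IH p (Nat.card S)) (h5 : p = 5 → NB p S) : NB p S := by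
  have hc : Nat.card S = 42305421312000 := Cfsg.Agent.NotCT.Orders.co2 h
  by_cases hd : p ∣ Nat.card S
  swap
  · exact NB.of_not_dvd hd
  have hm : p ∈ [2, 3, 5, 7, 11, 23] :=
    H852.IMSuz.prime_cases' hp.out [2, 3, 5, 7, 11, 23] (by decide) 18 (n := Nat.card S) hd (by rw [hc]; norm_num)
  simp only [List.mem_cons, List.not_mem_nil, or_false] at hm
  have hIM := H843.IMC.Rows.im_co2 h hd
  rcases hm with rfl | rfl | rfl | rfl | rfl | rfl
  · exact absurd rfl h2
  · exact nb_co2_three S h ih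
  · exact h5 rfl
  · exact H493.NB.of_IM hIM (by rw [hc]; norm_num)
  · exact H493.NB.of_IM hIM (by rw [hc]; norm_num)
  · exact H493.NB.of_IM hIM (by rw [hc]; norm_num)

/-- `p = 5`, from an embedding of `HS` -/
theorem nb_co2_five [hp : Fact (Nat.Prime 5)] (S : Type) [Group S] [Finite S] [IsSimpleGroup S]
    (h : Spor.IsoCo2 S) (ih : IH 5 (Nat.card S)) (f : Spor.HS →* Spor.Co2) (hf : Function.Injective f) : NB 5 S := by
  have hc : Nat.card S = 42305421312000 := Cfsg.Agent.NotCT.Orders.co2 h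
  have hna : ¬ IsMulCommutative S := CoThree.not_comm hc (by norm_num)
  obtain ⟨y, u, v, hy, hu, hv, huv, huy, hvy⟩ := CoThree.exists_yuv
  obtain ⟨⟨k⟩, -⟩ := HN.AutHS.nonempty_Q
  obtain ⟨e⟩ := h
  let g : ↥HN.HS100.Q →* S := e.symm.toMonoidHom.comp (f.comp k.toMonoidHom)
  have hg : Function.Injective g := e.symm.injective.comp (hf.comp k.injective)
  refine nb_of_gen (y := g y) (u := g u) (v := g v) (r := 3) (a := 3) hna ih (by rw [orderOf_injective g hg, hy])
    (by norm_num) (by norm_num) (by rw [← map_pow, hu, map_one]) (by rw [← map_pow, hv, map_one])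
    (by rw [← map_mul, orderOf_injective g hg, huv]) (by rw [← map_mul, huy, map_mul]) (by rw [← map_mul, hvy, map_mul])
    (by rw [hc]; norm_num) ?_
  intro j h1 h3
  obtain rfl : j = 1 := by omega
  norm_num

theorem nb_co2 {p : ℕ} [hp : Fact p.Prime] (h2 : p ≠ 2) (S : Type) [Group S] [Finite S] [IsSimpleGroup S]
    (h : Spor.IsoCo2 S) (ih : IH p (Nat.card S)) : NB p S := by
  refine nb_co2_of h2 S h ih ?_
  rintro rfl
  exact nb_co2_five S h ih H665.SporCo.toCo2 H665.SporCo.toCo2_inj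

end Cfsg.Agent.H978.NB.CoTwo
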